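import Groth.Agent.AlgSpLib.Reduced
import Groth.Agent.AlgSpLib.Points
import Groth.Agent.AlgSpLib.LocP
import Groth.Agent.AlgSpLib.EtST
import Groth.Agent.FlatMor.ReducedDescent
import Groth.Agent.GeomRedAt.Open
import Groth.Agent.S10686

/-!
# The locus of geometrically reduced fibres of a morphism of algebraic spaces, in charts
-/

set_option autoImplicit false

universe u

open CategoryTheory CategoryTheory.Limits AlgebraicGeometry

namespace Groth.Agent.GeomRedFibre

open _root_.AlgSp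

variable {S : Scheme.{u}} {X Y : AlgSp.Space S}

/-- Membership in the locus of geometrically reduced fibres, read in a chart. -/
theorem mem_iff (f : X ⟶ Y) {V : Over S} (a : (AlgSp.yon S).obj V ⟶ Y.obj) {U : Over S}
    (u : (AlgSp.yon S).obj U ⟶ pullback f.hom a) (hu : AlgSp.RepWith @Etale u)
    (hus : AlgSp.RepWith @Surjective u) (h : U ⟶ V) (hh : (AlgSp.yon S).map h = u ≫ pullback.snd f.hom a)
    (v : ↥V.left) :
    Points.ofPt a v ∈ {y : AlgSp.Points Y.obj | ∀ (k : AlgSp.FieldPt Y.obj), AlgSp.Points.mk k = y →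
        ∀ (k' : Type u) [Field k'] (φ : k.K →+* k') (Xk' : AlgSp.Sp S) (a : Xk' ⟶ X.obj)
          (b : Xk' ⟶ (AlgSp.yon S).obj (Over.mk (Spec.map (CommRingCat.ofHom φ) ≫ k.str))),
          IsPullback a b f.hom ((AlgSp.yon S).map (Over.homMk (Spec.map (CommRingCat.ofHom φ)) rfl :
            Over.mk (Spec.map (CommRingCat.ofHom φ) ≫ k.str) ⟶ k.pt) ≫ k.toHom) →
          AlgSp.EtaleLocally (fun U => IsReduced U) Xk'} ↔
      GeometricallyReduced (h.left.fiberToSpecResidueField v) := by
  have sqV := IsPullback.of_hasPullback f.hom a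
  let κ := V.left.residueField v
  let str : Spec (CommRingCat.of κ) ⟶ S := V.left.fromSpecResidueField v ≫ V.hom
  let pv : Over.mk str ⟶ V := Over.homMk (V.left.fromSpecResidueField v) rfl
  let k₀ : AlgSp.FieldPt Y.obj := ⟨κ, str, (AlgSp.J S).uliftYonedaEquiv ((AlgSp.yon S).map pv ≫ a)⟩
  have hk₀ : k₀.toHom = (AlgSp.yon S).map pv ≫ a := Equiv.symm_apply_apply _ _
  have hmk : AlgSp.Points.mk k₀ = Points.ofPt a v := by
    rw [← AlgSp.Points.ofPt_toHom k₀ (IsLocalRing.closedPoint κ), hk₀, Groth.Agent.AlgSpLib.ofPt_comp]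
    congr 1
    exact V.left.fromSpecResidueField_apply v _
  have step : GeometricallyReduced (h.left.fiberToSpecResidueField v) ↔
      ∀ (k' : Type u) [Field k'] (φ : k₀.K →+* k') (Xk' : AlgSp.Sp S) (a : Xk' ⟶ X.obj)
          (b : Xk' ⟶ (AlgSp.yon S).obj (Over.mk (Spec.map (CommRingCat.ofHom φ) ≫ k₀.str))),
          IsPullback a b f.hom ((AlgSp.yon S).map (Over.homMk (Spec.map (CommRingCat.ofHom φ)) rfl :
            Over.mk (Spec.map (CommRingCat.ofHom φ) ≫ k₀.str) ⟶ k₀.pt) ≫ k₀.toHom) →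
          AlgSp.EtaleLocally (fun U => IsReduced U) Xk' := by
    have chart : ∀ (k' : Type u) [Field k'] (φ : k₀.K →+* k') (Xk' : AlgSp.Sp S) (a' : Xk' ⟶ X.obj)
          (b : Xk' ⟶ (AlgSp.yon S).obj (Over.mk (Spec.map (CommRingCat.ofHom φ) ≫ k₀.str))),
          IsPullback a' b f.hom ((AlgSp.yon S).map (Over.homMk (Spec.map (CommRingCat.ofHom φ)) rfl :
            Over.mk (Spec.map (CommRingCat.ofHom φ) ≫ k₀.str) ⟶ k₀.pt) ≫ k₀.toHom) →
          ∃ (Z : Over S) (r : (AlgSp.yon S).obj Z ⟶ Xk') (zU : Z.left ⟶ U.left) (zK : Z.left ⟶ Spec (CommRingCat.of k')),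
            AlgSp.RepWith @Etale r ∧ AlgSp.RepWith @Surjective r ∧
            IsPullback zU zK h.left (Spec.map (CommRingCat.ofHom φ) ≫ V.left.fromSpecResidueField v) := by
      intro k' _ φ Xk' a' b sq
      let t : Over.mk (Spec.map (CommRingCat.ofHom φ) ≫ k₀.str) ⟶ V :=
        (Over.homMk (Spec.map (CommRingCat.ofHom φ)) rfl :
          Over.mk (Spec.map (CommRingCat.ofHom φ) ≫ k₀.str) ⟶ k₀.pt) ≫ pv
      have ht : (AlgSp.yon S).map (Over.homMk (Spec.map (CommRingCat.ofHom φ)) rfl :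
          Over.mk (Spec.map (CommRingCat.ofHom φ) ≫ k₀.str) ⟶ k₀.pt) ≫ k₀.toHom = (AlgSp.yon S).map t ≫ a := by
        rw [hk₀, ← Functor.map_comp_assoc]
      rw [ht] at sq
      let m : Xk' ⟶ pullback f.hom a := sqV.lift a' (b ≫ (AlgSp.yon S).map t) (by rw [sq.w, Category.assoc])
      have sqm : IsPullback m b (pullback.snd f.hom a) ((AlgSp.yon S).map t) :=
        IsPullback.of_right (by rw [sqV.lift_fst]; exact sq) (sqV.lift_snd _ _ _) sqV
      let Z : Over S := Over.mk (pullback.fst h.left t.left ≫ U.hom)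
      let zU : Z ⟶ U := Over.homMk (pullback.fst h.left t.left) rfl
      let zT : Z ⟶ Over.mk (Spec.map (CommRingCat.ofHom φ) ≫ k₀.str) := Over.homMk (pullback.snd h.left t.left) (by
        show pullback.snd h.left t.left ≫ _ = pullback.fst h.left t.left ≫ U.hom
        rw [← Over.w h, pullback.condition_assoc, Over.w t])
      have sqZ : IsPullback ((AlgSp.yon S).map zU) ((AlgSp.yon S).map zT) ((AlgSp.yon S).map h) ((AlgSp.yon S).map t) :=
        Groth.Agent.AlgSpLib.isPullback_yon_iff.2 (IsPullback.of_hasPullback h.left t.left)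
      rw [hh] at sqZ
      let r : (AlgSp.yon S).obj Z ⟶ Xk' :=
        sqm.lift ((AlgSp.yon S).map zU ≫ u) ((AlgSp.yon S).map zT) (by rw [Category.assoc]; exact sqZ.w)
      have sqr : IsPullback ((AlgSp.yon S).map zU) r u m :=
        IsPullback.of_bot (by rw [sqm.lift_snd]; exact sqZ) (sqm.lift_fst _ _ _).symm sqm
      exact ⟨Z, r, zU.left, zT.left, Groth.Agent.AlgSpLib.repWith_baseChange sqr hu,
        Groth.Agent.AlgSpLib.repWith_baseChange sqr hus, IsPullback.of_hasPullback h.left t.left⟩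
    have sqF : IsPullback (h.left.fiberι v) (h.left.fiberToSpecResidueField v) h.left
        (V.left.fromSpecResidueField v) := IsPullback.of_hasPullback _ _
    constructor
    · intro hg k' _ φ Xk' a' b sq
      obtain ⟨Z, r, zU, zK, hr, hrs, sqZ⟩ := chart k' φ Xk' a' b sq
      let l := sqF.lift zU (zK ≫ Spec.map (CommRingCat.ofHom φ)) (by rw [Category.assoc]; exact sqZ.w)
      exact ⟨Z, r, hr, hrs, hg.geometrically_isReduced (Spec.map (CommRingCat.ofHom φ)) l zK
        (IsPullback.of_right (by rw [sqF.lift_fst]; exact sqZ) (sqF.lift_snd _ _ _) sqF)⟩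
    · intro hk
      refine ⟨fun K _ y Z' fst snd sq' => ?_⟩
      obtain ⟨φ', rfl⟩ := Spec.map_surjective y
      have sqX := IsPullback.of_hasPullback f.hom ((AlgSp.yon S).map (Over.homMk (Spec.map (CommRingCat.ofHom φ'.hom)) rfl :
        Over.mk (Spec.map (CommRingCat.ofHom φ'.hom) ≫ k₀.str) ⟶ k₀.pt) ≫ k₀.toHom)
      obtain ⟨Z, r, zU, zK, hr, -, sqZ⟩ := chart K φ'.hom _ _ _ sqX
      obtain ⟨Z₁, r₁, hr₁, hr₁s, hZ₁⟩ := hk K φ'.hom _ _ _ sqX
      have hXK := Groth.Agent.AlgSpLib.isAlgSpace_of_isPullback_space Y.property X.property (AlgSp.IsAlgSpace.yon_obj _) sqX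
      obtain ⟨W, p, q, sqW⟩ := Groth.Agent.AlgSpLib.exists_pullback hXK.diag r₁ r
      have : Etale p.left := (Groth.Agent.AlgSpLib.repWith_yon_iff p).1 (Groth.Agent.AlgSpLib.repWith_baseChange sqW.flip hr)
      have : Etale q.left := (Groth.Agent.AlgSpLib.repWith_yon_iff q).1 (Groth.Agent.AlgSpLib.repWith_baseChange sqW hr₁)
      have : Surjective q.left := (Groth.Agent.AlgSpLib.repWith_yon_iff q).1 (Groth.Agent.AlgSpLib.repWith_baseChange sqW hr₁s)
      have : IsReduced Z₁.left := hZ₁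
      have : IsReduced W.left := Groth.Agent.AlgSpLib.isReduced_of_smooth p.left
      have : IsReduced Z.left := Groth.Agent.FlatMor.isReduced_of_flat_surjective q.left
      have sq'' : IsPullback (fst ≫ h.left.fiberι v) snd h.left (Spec.map φ' ≫ V.left.fromSpecResidueField v) :=
        sq'.paste_horiz sqF
      exact isReduced_of_isOpenImmersion (sq''.isoIsPullback _ _ sqZ).hom
  rw [step]
  refine ⟨fun h' => h' k₀ hmk, fun h' => ?_⟩
  have ht := (S10686.result f (Points.ofPt a v)).out 0 1 rfl rfl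
  exact ht.1 ⟨k₀, hmk, h'⟩

/-- Geometric reducedness of fibres at points is unchanged by etale morphisms of the source. -/
theorem gr_comp_etale_iff {U' U V : Scheme.{u}} (e : U' ⟶ U) [Etale e] (h : U ⟶ V) (w : U') :
    GeomRedAt.GR (e ≫ h) w ↔ GeomRedAt.GR h (e w) := by
  have key : ∀ (K : Type u) [Field K] (v : Spec (CommRingCat.of K) ⟶ V),
      ∃ m : pullback (e ≫ h) v ⟶ pullback h v,
      IsPullback m (pullback.fst (e ≫ h) v) (pullback.fst h v) e := by
    intro K _ v
    refine ⟨pullback.map (e ≫ h) v h v e (𝟙 _) (𝟙 _) (Category.comp_id _) (by simp), ?_⟩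
    refine (IsPullback.of_right ?_ ?_ (IsPullback.of_hasPullback h v).flip)
    · rw [show pullback.map (e ≫ h) v h v e (𝟙 _) (𝟙 _) (Category.comp_id _) (by simp) ≫ pullback.snd h v =
        pullback.snd (e ≫ h) v from (pullback.lift_snd _ _ _).trans (Category.comp_id _)]
      exact (IsPullback.of_hasPullback (e ≫ h) v).flip
    · exact pullback.lift_fst _ _ _
  constructor
  · intro H K _ v x' hx'
    obtain ⟨m, sq⟩ := key K v
    have : Smooth m := MorphismProperty.of_isPullback (P := @Smooth) sq.flip (inferInstance : Smooth e)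
    obtain ⟨z, hz₁, hz₂⟩ := Scheme.Pullback.exists_preimage_pullback (f := pullback.fst h v) (g := e) x' w hx'
    let z' := sq.isoPullback.inv z
    have h1 : m z' = x' := by rw [← Scheme.Hom.comp_apply, sq.isoPullback_inv_fst, hz₁]
    have h2 : pullback.fst (e ≫ h) v z' = w := by rw [← Scheme.Hom.comp_apply, sq.isoPullback_inv_snd, hz₂]
    exact h1 ▸ (AlgSpLib.isReduced_stalk_iff_of_smooth m z').1 (H K v z' h2)
  · intro H K _ v x' hx'
    obtain ⟨m, sq⟩ := key K v
    have : Smooth m := MorphismProperty.of_isPullback (P := @Smooth) sq.flip (inferInstance : Smooth e)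
    refine (AlgSpLib.isReduced_stalk_iff_of_smooth m x').2 (H K v (m x') ?_)
    rw [← Scheme.Hom.comp_apply, sq.w, Scheme.Hom.comp_apply]
    exact congrArg e hx'

end Groth.Agent.GeomRedFibre
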